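import Groth.Agent.FPPairColimLib.System
import Mathlib.CategoryTheory.Limits.Shapes.Pullback.IsPullback.Basic
import Mathlib.Algebra.Category.Ring.FilteredColimits
import Mathlib.Algebra.Category.Ring.Limits
import Mathlib.CategoryTheory.Limits.Types.Pullbacks
import Mathlib.Algebra.Algebra.Prod

/-!
# Fibre products of systems of presentations
-/

set_option autoImplicit false
universe u

open CategoryTheory CategoryTheory.Limits MvPolynomial

namespace FPPairColimLib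

variable {R : Type u} [CommRing R] {B D E : Type u} [CommRing B] [Algebra R B] [CommRing D] [Algebra R D]
  [CommRing E] [Algebra R E]

/-- Pairs with the same image. -/
def fib (φ : B →ₐ[R] D) (ψ : E →ₐ[R] D) : Subalgebra R (B × E) :=
  AlgHom.equalizer (φ.comp (AlgHom.fst R B E)) (ψ.comp (AlgHom.snd R B E))

theorem mem_fib {φ : B →ₐ[R] D} {ψ : E →ₐ[R] D} {x : B × E} : x ∈ fib φ ψ ↔ φ x.1 = ψ x.2 := Iff.rfl

theorem isPullback_fib (φ : B →ₐ[R] D) (ψ : E →ₐ[R] D) :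
    IsPullback (CommRingCat.ofHom ((AlgHom.fst R B E).comp (fib φ ψ).val).toRingHom)
      (CommRingCat.ofHom ((AlgHom.snd R B E).comp (fib φ ψ).val).toRingHom)
      (CommRingCat.ofHom φ.toRingHom) (CommRingCat.ofHom ψ.toRingHom) := by
  refine IsPullback.of_isLimit' ⟨CommRingCat.hom_ext (RingHom.ext fun x => x.2)⟩
    (PullbackCone.IsLimit.mk _ (fun s => CommRingCat.ofHom
      (RingHom.codRestrict (s.fst.hom.prod s.snd.hom) (fib φ ψ).toSubring fun t =>
        congrArg (fun g : s.pt ⟶ CommRingCat.of D => g.hom t) s.condition))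
      (fun s => rfl) (fun s => rfl) fun s m h1 h2 => ?_)
  refine CommRingCat.hom_ext (RingHom.ext fun t => Subtype.ext (Prod.ext ?_ ?_))
  · exact congrArg (fun g => g.hom t) h1
  · exact congrArg (fun g => g.hom t) h2

theorem existsUnique_of_isPullback {P : Type u} [CommRing P] [Algebra R P] {f : B →ₐ[R] D} {i : E →ₐ[R] D}
    {q₁ : P →ₐ[R] B} {q₂ : P →ₐ[R] E}
    (hP : IsPullback (CommRingCat.ofHom q₁.toRingHom) (CommRingCat.ofHom q₂.toRingHom)
      (CommRingCat.ofHom f.toRingHom) (CommRingCat.ofHom i.toRingHom)) (b : B) (e : E) (h : f b = i e) :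
    ∃! p : P, q₁ p = b ∧ q₂ p = e := by
  have h' := hP.map (CategoryTheory.forget CommRingCat)
  obtain ⟨p, hp1, hp2⟩ := Types.exists_of_isPullback h' b e h
  exact ⟨p, ⟨hp1, hp2⟩, fun p' hp' => Types.ext_of_isPullback h' (hp'.1.trans hp1.symm) (hp'.2.trans hp2.symm)⟩

theorem condition_of_isPullback {P : Type u} [CommRing P] [Algebra R P] {f : B →ₐ[R] D} {i : E →ₐ[R] D}
    {q₁ : P →ₐ[R] B} {q₂ : P →ₐ[R] E}
    (hP : IsPullback (CommRingCat.ofHom q₁.toRingHom) (CommRingCat.ofHom q₂.toRingHom)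
      (CommRingCat.ofHom f.toRingHom) (CommRingCat.ofHom i.toRingHom)) (p : P) : f (q₁ p) = i (q₂ p) :=
  congrArg (fun g => g.hom p) hP.w

section Sys

variable {ι : Type u} [Preorder ι] [Nonempty ι] [IsDirectedOrder ι]
  {π : ι → Pres R B} {ρ : ι → Pres R D} {τ : ι → Pres R E} (hπ : Monotone π) (hρ : Monotone ρ) (hτ : Monotone τ)
  {f : B →ₐ[R] D} {i : E →ₐ[R] D} (hf : ∀ j, Maps f (π j) (ρ j)) (hi : ∀ j, Maps i (τ j) (ρ j))

/-- The fibre product at a stage. -/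
noncomputable abbrev fibQ (j : ι) : Subalgebra R ((π j).Q × (τ j).Q) := fib (hf j).hom (hi j).hom

include hρ in
/-- The transition maps. -/
noncomputable def fibTr {j k : ι} (h : j ≤ k) : fibQ hf hi j →ₐ[R] fibQ hf hi k :=
  AlgHom.codRestrict (((Maps.hom (hπ h)).comp (AlgHom.fst R _ _)).prod ((Maps.hom (hτ h)).comp (AlgHom.snd R _ _)) |>.comp
    (fibQ hf hi j).val) _ fun x => by
      show (hf k).hom (Maps.hom (hπ h) x.1.1) = (hi k).hom (Maps.hom (hτ h) x.1.2)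
      rw [Maps.natural (hπ h) (hρ h) (hf j) (hf k), Maps.natural (hτ h) (hρ h) (hi j) (hi k)]
      exact congrArg _ x.2

/-- The system of fibre products. -/
noncomputable def fibD : ι ⥤ Under (CommRingCat.of R) where
  obj j := CommRingCat.mkUnder (CommRingCat.of R) (fibQ hf hi j)
  map {j k} h := AlgHom.toUnder (fibTr hπ hρ hτ hf hi (leOfHom h) : fibQ hf hi j →ₐ[R] fibQ hf hi k)
  map_id j := CommRingCat.mkUnder_ext fun x => by
    refine Subtype.ext (Prod.ext ?_ ?_)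
    · exact hom_refl (π j) le_rfl (x : fibQ hf hi j).1.1
    · exact hom_refl (τ j) le_rfl (x : fibQ hf hi j).1.2
  map_comp {j k l} h h' := CommRingCat.mkUnder_ext fun x => by
    refine Subtype.ext (Prod.ext ?_ ?_)
    · exact (Maps.hom_hom (hπ (leOfHom h)) (hπ (leOfHom h')) (hπ (leOfHom (h ≫ h'))) (fun _ => rfl) (x : fibQ hf hi j).1.1).symm
    · exact (Maps.hom_hom (hτ (leOfHom h)) (hτ (leOfHom h')) (hτ (leOfHom (h ≫ h'))) (fun _ => rfl) (x : fibQ hf hi j).1.2).symm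

/-- The first projection. -/
noncomputable def fibFst : fibD hπ hρ hτ hf hi ⟶ sysD hπ where
  app j := AlgHom.toUnder ((AlgHom.fst R _ _).comp (fibQ hf hi j).val : fibQ hf hi j →ₐ[R] (π j).Q)
  naturality _ _ _ := CommRingCat.mkUnder_ext fun _ => rfl

/-- The second projection. -/
noncomputable def fibSnd : fibD hπ hρ hτ hf hi ⟶ sysD hτ where
  app j := AlgHom.toUnder ((AlgHom.snd R _ _).comp (fibQ hf hi j).val : fibQ hf hi j →ₐ[R] (τ j).Q)
  naturality _ _ _ := CommRingCat.mkUnder_ext fun _ => rfl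

theorem isPullback_app (j : ι) :
    IsPullback ((fibFst hπ hρ hτ hf hi).app j).right ((fibSnd hπ hρ hτ hf hi).app j).right
      ((sysMap hπ hρ f hf).app j).right ((sysMap hτ hρ i hi).app j).right :=
  isPullback_fib (hf j).hom (hi j).hom

variable {P : Type u} [CommRing P] [Algebra R P] {q₁ : P →ₐ[R] B} {q₂ : P →ₐ[R] E}
    (hP : IsPullback (CommRingCat.ofHom q₁.toRingHom) (CommRingCat.ofHom q₂.toRingHom)
      (CommRingCat.ofHom f.toRingHom) (CommRingCat.ofHom i.toRingHom))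

/-- The fibre product as a subalgebra. -/
noncomputable def equivFib : P ≃ₐ[R] fib f i :=
  AlgEquiv.ofBijective (AlgHom.codRestrict (q₁.prod q₂) _ fun p => condition_of_isPullback hP p)
    ⟨fun a b h => (existsUnique_of_isPullback hP (q₁ b) (q₂ b) (condition_of_isPullback hP b)).unique
      ⟨congrArg (fun z : fib f i => z.1.1) h, congrArg (fun z : fib f i => z.1.2) h⟩ ⟨rfl, rfl⟩,
    fun z => by
      obtain ⟨p, ⟨h1, h2⟩, -⟩ := existsUnique_of_isPullback hP z.1.1 z.1.2 z.2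
      exact ⟨p, Subtype.ext (Prod.ext h1 h2)⟩⟩

/-- A stage of the fibre product maps to the fibre product. -/
noncomputable def fibToA (j : ι) : fibQ hf hi j →ₐ[R] P :=
  (equivFib hP).symm.toAlgHom.comp (AlgHom.codRestrict
    ((((π j).toA).comp (AlgHom.fst R _ _)).prod (((τ j).toA).comp (AlgHom.snd R _ _)) |>.comp (fibQ hf hi j).val) _ fun x => by
      show f ((π j).toA x.1.1) = i ((τ j).toA x.1.2)
      rw [← (hf j).toA_hom, ← (hi j).toA_hom]
      exact congrArg _ x.2)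

theorem fibToA_fst (j : ι) (x : fibQ hf hi j) : q₁ (fibToA hf hi hP j x) = (π j).toA x.1.1 :=
  congrArg (fun z : fib f i => z.1.1) ((equivFib hP).apply_symm_apply _)

theorem fibToA_snd (j : ι) (x : fibQ hf hi j) : q₂ (fibToA hf hi hP j x) = (τ j).toA x.1.2 :=
  congrArg (fun z : fib f i => z.1.2) ((equivFib hP).apply_symm_apply _)

include hP in
theorem ext_P {a b : P} (h1 : q₁ a = q₁ b) (h2 : q₂ a = q₂ b) : a = b :=
  (existsUnique_of_isPullback hP (q₁ b) (q₂ b) (condition_of_isPullback hP b)).unique ⟨h1, h2⟩ ⟨rfl, rfl⟩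

/-- The cocone of fibre products. -/
noncomputable def fibC : fibD hπ hρ hτ hf hi ⟶ (Functor.const ι).obj (Under.mk (CommRingCat.ofHom (algebraMap R P))) where
  app j := AlgHom.toUnder (fibToA hf hi hP j : fibQ hf hi j →ₐ[R] P)
  naturality j k h := CommRingCat.mkUnder_ext fun x => by
    show fibToA hf hi hP k (fibTr hπ hρ hτ hf hi (leOfHom h) x) = fibToA hf hi hP j x
    refine ext_P hP ?_ ?_
    · rw [fibToA_fst, fibToA_fst]; exact Maps.toA_hom (hπ (leOfHom h)) _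
    · rw [fibToA_snd, fibToA_snd]; exact Maps.toA_hom (hτ (leOfHom h)) _

theorem nonempty_isColimit_fib (hcπ : ∀ p, ∃ j, p ≤ π j) (hcρ : ∀ p, ∃ j, p ≤ ρ j) (hcτ : ∀ p, ∃ j, p ≤ τ j) :
    Nonempty (IsColimit (Cocone.mk _ (fibC hπ hρ hτ hf hi hP))) := by
  refine nonempty_isColimit _ (fun y => ?_) fun j x hx => ?_
  · let p : P := y
    obtain ⟨pb, hpb⟩ := exists_single (R := R) (q₁ p)
    obtain ⟨pe, hpe⟩ := exists_single (R := R) (q₂ p)
    obtain ⟨j₁, hj₁⟩ := hcπ pb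
    obtain ⟨j₂, hj₂⟩ := hcτ pe
    obtain ⟨j, h₁, h₂⟩ := directed_of (· ≤ ·) j₁ j₂
    have hb : q₁ p ∈ (π j).s := (hπ h₁).choose _ (hj₁.choose _ hpb)
    have he : q₂ p ∈ (τ j).s := (hτ h₂).choose _ (hj₂.choose _ hpe)
    let xb : (π j).Q := Ideal.Quotient.mk _ (X ⟨q₁ p, hb⟩)
    let xe : (τ j).Q := Ideal.Quotient.mk _ (X ⟨q₂ p, he⟩)
    have hxb : (π j).toA xb = q₁ p := aeval_X _ _
    have hxe : (τ j).toA xe = q₂ p := aeval_X _ _
    obtain ⟨r, hr, h0, -⟩ := exists_relation (ρ j) ((hf j).hom xb - (hi j).hom xe) (by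
      rw [map_sub, (hf j).toA_hom, (hi j).toA_hom, hxb, hxe, sub_eq_zero]
      exact condition_of_isPullback hP p)
    obtain ⟨k', hk'⟩ := hcρ r
    obtain ⟨k, hjk, hk⟩ := directed_of (· ≤ ·) j k'
    have hmem : (Maps.hom (hπ hjk) xb, Maps.hom (hτ hjk) xe) ∈ fibQ hf hi k := by
      show (hf k).hom (Maps.hom (hπ hjk) xb) = (hi k).hom (Maps.hom (hτ hjk) xe)
      rw [Maps.natural (hπ hjk) (hρ hjk) (hf j) (hf k), Maps.natural (hτ hjk) (hρ hjk) (hi j) (hi k),
        ← sub_eq_zero, ← map_sub, ← Maps.hom_hom hr (hk'.trans (hρ hk)) (hρ hjk) (fun _ => rfl), h0, map_zero]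
    refine ⟨k, ⟨_, hmem⟩, ext_P hP ?_ ?_⟩
    · exact ((fibToA_fst hf hi hP k ⟨_, hmem⟩).trans (Maps.toA_hom (hπ hjk) xb)).trans hxb
    · exact ((fibToA_snd hf hi hP k ⟨_, hmem⟩).trans (Maps.toA_hom (hτ hjk) xe)).trans hxe
  · let x' : fibQ hf hi j := x
    have hx' : fibToA hf hi hP j x' = 0 := hx
    obtain ⟨a, ha, ha0, -⟩ := exists_relation (π j) x'.1.1 (by rw [← fibToA_fst hf hi hP, hx', map_zero])
    obtain ⟨b, hb, hb0, -⟩ := exists_relation (τ j) x'.1.2 (by rw [← fibToA_snd hf hi hP, hx', map_zero])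
    obtain ⟨j₁, hj₁⟩ := hcπ a
    obtain ⟨j₂, hj₂⟩ := hcτ b
    obtain ⟨k', h₁, h₂⟩ := directed_of (· ≤ ·) j₁ j₂
    obtain ⟨k, hjk, hk⟩ := directed_of (· ≤ ·) j k'
    refine ⟨k, homOfLE hjk, ?_⟩
    show fibTr hπ hρ hτ hf hi hjk x' = 0
    refine Subtype.ext (Prod.ext ?_ ?_)
    · show Maps.hom (hπ hjk) x'.1.1 = 0
      rw [← Maps.hom_hom ha (hj₁.trans (hπ (h₁.trans hk))) (hπ hjk) (fun _ => rfl), ha0, map_zero]
    · show Maps.hom (hτ hjk) x'.1.2 = 0
      rw [← Maps.hom_hom hb (hj₂.trans (hτ (h₂.trans hk))) (hτ hjk) (fun _ => rfl), hb0, map_zero]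

end Sys

end FPPairColimLib
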