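import Groth.Agent.FPPairColimLib.Pres

/-!
# Systems of presentations for a map of integral algebras
-/

set_option autoImplicit false
universe u

open CategoryTheory CategoryTheory.Limits MvPolynomial

namespace FPPairColimLib

variable {A : Type u} [CommRing A] {B C : Type u} [CommRing B] [Algebra A B] [CommRing C] [Algebra A C]

/-- The generators are integral, and are constants if the structure map is surjective. -/
def GenRel (p : Pres A B) : Prop :=
  (∀ b : p.s, IsIntegral A (Ideal.Quotient.mk p.I (X b))) ∧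
    (Function.Surjective (algebraMap A B) → ∀ b : p.s, ∃ a : A, Ideal.Quotient.mk p.I (X b) = algebraMap A p.Q a)

theorem exists_genRel [Algebra.IsIntegral A B] (s : Finset B) : ∃ I : Ideal (MvPolynomial s A),
    I.FG ∧ I ≤ RingHom.ker (ev A B s) ∧ ∀ J, I ≤ J → ∀ (hJ : J.FG) (hle : J ≤ RingHom.ker (ev A B s)),
      GenRel (⟨s, J, hJ, hle⟩ : Pres A B) := by
  classical
  choose P hm hP using fun b : s => Algebra.IsIntegral.isIntegral (R := A) (b : B)
  have hex : ∀ b : s, ∃ a : A, Function.Surjective (algebraMap A B) → algebraMap A B a = b := fun b => by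
    by_cases h : Function.Surjective (algebraMap A B)
    · obtain ⟨a, ha⟩ := h b; exact ⟨a, fun _ => ha⟩
    · exact ⟨0, fun h' => absurd h' h⟩
  choose a ha using hex
  let g : s → MvPolynomial s A := fun b => Polynomial.aeval (X b) (P b)
  let h : s → MvPolynomial s A := fun b => X b - C (a b)
  let S₁ : Ideal (MvPolynomial s A) := Ideal.span (Set.range g)
  let S₂ : Ideal (MvPolynomial s A) :=
    if Function.Surjective (algebraMap A B) then Ideal.span (Set.range h) else ⊥
  refine ⟨S₁ ⊔ S₂, Submodule.FG.sup (Submodule.fg_span (Set.finite_range g)) ?_, sup_le ?_ ?_, ?_⟩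
  · show S₂.FG
    simp only [S₂]
    split_ifs
    exacts [Submodule.fg_span (Set.finite_range h), Submodule.fg_bot]
  · refine Ideal.span_le.mpr ?_
    rintro _ ⟨b, rfl⟩
    show ev A B s (Polynomial.aeval (X b) (P b)) = 0
    rw [← Polynomial.aeval_algHom_apply, ev, aeval_X]
    exact hP b
  · simp only [S₂]
    split_ifs with hs
    · refine Ideal.span_le.mpr ?_
      rintro _ ⟨b, rfl⟩
      show ev A B s (X b - C (a b)) = 0
      rw [map_sub, ev, aeval_X, aeval_C, ha b hs, sub_self]
    · exact bot_le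
  · intro J hle hJ hker
    refine ⟨fun b => ⟨P b, hm b, ?_⟩, fun hs b => ⟨a b, ?_⟩⟩
    · rw [← Polynomial.aeval_def]
      refine (Polynomial.aeval_algHom_apply (Ideal.Quotient.mkₐ A J) _ _).trans ?_
      exact Ideal.Quotient.eq_zero_iff_mem.mpr (hle (Ideal.mem_sup_left (Ideal.subset_span ⟨b, rfl⟩)))
    · refine Ideal.Quotient.eq.mpr (hle (Ideal.mem_sup_right ?_))
      simp only [S₂, if_pos hs]
      exact Ideal.subset_span ⟨b, rfl⟩

theorem GenRel.finite {p : Pres A B} (h : GenRel p) : Module.Finite A p.Q := by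
  haveI : Algebra.IsIntegral A p.Q := ⟨fun x => by
    obtain ⟨x, rfl⟩ := Ideal.Quotient.mk_surjective x
    induction x using MvPolynomial.induction_on with
    | C r => exact isIntegral_algebraMap (R := A) (x := r)
    | add x y hx hy => rw [map_add]; exact hx.add hy
    | mul_X x b hx => rw [map_mul]; exact hx.mul (h.1 b)⟩
  haveI := p.finitePresentation
  exact Algebra.IsIntegral.finite

theorem GenRel.surjective {p : Pres A B} (h : GenRel p) (hs : Function.Surjective (algebraMap A B)) :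
    Function.Surjective (algebraMap A p.Q) := by
  intro x
  obtain ⟨x, rfl⟩ := Ideal.Quotient.mk_surjective x
  induction x using MvPolynomial.induction_on with
  | C r => exact ⟨r, rfl⟩
  | add x y hx hy =>
    obtain ⟨a, ha⟩ := hx
    obtain ⟨b, hb⟩ := hy
    exact ⟨a + b, by rw [map_add, map_add, ha, hb]⟩
  | mul_X x b hx =>
    obtain ⟨a, ha⟩ := hx
    obtain ⟨c, hc⟩ := h.2 hs b
    exact ⟨a * c, by rw [map_mul, map_mul, ha, hc]⟩

theorem ker_algebraMap_le (p : Pres A B) : RingHom.ker (algebraMap A p.Q) ≤ RingHom.ker (algebraMap A B) := by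
  intro a ha
  rw [RingHom.mem_ker] at ha ⊢
  rw [← p.toA.commutes, ha, map_zero]

variable (f : B →ₐ[A] C)

/-- A good pair of presentations. -/
def IntGood (x : Pres A B × Pres A C) : Prop :=
  GenRel x.1 ∧ GenRel x.2 ∧ ∃ h : Maps f x.1 x.2,
    (Function.Surjective f → Function.Surjective h.hom) ∧
    (Function.Surjective f → IsNilpotent (RingHom.ker f) → IsNilpotent (RingHom.ker h.hom))

/-- The index category. -/
abbrev IntStage : Type u := {x : Pres A B × Pres A C // IntGood f x}

theorem exists_intGood [Algebra.IsIntegral A B] [Algebra.IsIntegral A C] (pB : Pres A B) (pC : Pres A C) :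
    ∃ x : IntStage f, pB ≤ x.1.1 ∧ pC ≤ x.1.2 := by
  classical
  let T₀ : Finset C := pC.s ∪ pB.s.image f
  let sB : Finset B := if hs : Function.Surjective f then pB.s ∪ T₀.image (Function.surjInv hs) else pB.s
  let T : Finset C := T₀ ∪ sB.image f
  have hBs : ∀ b ∈ pB.s, b ∈ sB := fun b hb => by
    simp only [sB]; split_ifs
    exacts [Finset.mem_union_left _ hb, hb]
  have hCs : ∀ c ∈ pC.s, c ∈ T := fun c hc => Finset.mem_union_left _ (Finset.mem_union_left _ hc)
  have hf : ∀ b ∈ sB, f b ∈ T := fun b hb => Finset.mem_union_right _ (Finset.mem_image_of_mem f hb)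
  have hsurj : Function.Surjective f → ∀ c ∈ T, ∃ b ∈ sB, f b = c := by
    intro hs c hc
    rcases Finset.mem_union.mp hc with h | h
    · refine ⟨Function.surjInv hs c, ?_, Function.surjInv_eq hs c⟩
      simp only [sB, dif_pos hs]
      exact Finset.mem_union_right _ (Finset.mem_image_of_mem _ h)
    · obtain ⟨b, hb, e⟩ := Finset.mem_image.mp h
      exact ⟨b, hb, e⟩
  obtain ⟨IB, hIBfg, hIBle, hIB⟩ := exists_genRel (A := A) sB
  obtain ⟨IC, hICfg, hICle, hIC⟩ := exists_genRel (A := A) T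
  let φ := rename (R := A) (vmap f hf)
  let I₁ := pB.I.map (rename (R := A) (vmap (AlgHom.id A B) hBs)) ⊔ IB
  have hI₁fg : I₁.FG := Submodule.FG.sup (Ideal.FG.map pB.fg _) hIBfg
  have hI₁le : I₁ ≤ RingHom.ker (ev A B sB) := sup_le (map_le_ker _ hBs pB.le) hIBle
  let J := (pC.I.map (rename (R := A) (vmap (AlgHom.id A C) hCs)) ⊔ IC) ⊔ I₁.map φ
  have hJfg : J.FG := Submodule.FG.sup (Submodule.FG.sup (Ideal.FG.map pC.fg _) hICfg) (Ideal.FG.map hI₁fg _)
  have hJle : J ≤ RingHom.ker (ev A C T) :=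
    sup_le (sup_le (map_le_ker _ hCs pC.le) hICle) (map_le_ker _ hf hI₁le)
  obtain ⟨I, hle, hIfg, hIker, hIJ, hnil⟩ : ∃ I : Ideal (MvPolynomial sB A), I₁ ≤ I ∧ I.FG ∧
      I ≤ RingHom.ker (ev A B sB) ∧ I.map φ ≤ J ∧
      (Function.Surjective f → IsNilpotent (RingHom.ker f) → ∃ n, J.comap φ ^ n ≤ I) := by
    by_cases h : Function.Surjective f ∧ IsNilpotent (RingHom.ker f)
    · obtain ⟨hs, N, hN⟩ := h
      have hφ : Function.Surjective φ := rename_surjective' _ fun c => by
        obtain ⟨b, hb, e⟩ := hsurj hs c.1 c.2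
        exact ⟨⟨b, hb⟩, Subtype.ext e⟩
      have hmap : (J.comap φ).map (ev A B sB) ≤ RingHom.ker f := by
        refine Ideal.map_le_iff_le_comap.mpr fun q hq => ?_
        show f (ev A B sB q) = 0
        rw [← ev_rename f hf]
        exact hJle hq
      refine ⟨I₁ ⊔ J.comap φ ^ (N + 1), le_sup_left,
        Submodule.FG.sup hI₁fg (Submodule.FG.pow (comap_fg φ hφ hJfg) _), sup_le hI₁le ?_, ?_, fun _ _ => ⟨_, le_sup_right⟩⟩
      · intro q hq
        have h1 : ev A B sB q ∈ (J.comap φ ^ (N + 1)).map (ev A B sB) := Ideal.mem_map_of_mem _ hq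
        rw [Ideal.map_pow] at h1
        have h2 := Ideal.pow_right_mono hmap (N + 1) h1
        rw [pow_succ, hN, Submodule.zero_eq_bot, Ideal.bot_mul] at h2
        exact h2
      · rw [Ideal.map_sup]
        refine sup_le le_sup_right ((Ideal.map_mono (Ideal.pow_le_self (Nat.succ_ne_zero N))).trans Ideal.map_comap_le)
    · exact ⟨I₁, le_rfl, hI₁fg, hI₁le, le_sup_right, fun h1 h2 => absurd ⟨h1, h2⟩ h⟩
  let qB : Pres A B := ⟨sB, I, hIfg, hIker⟩
  let qC : Pres A C := ⟨T, J, hJfg, hJle⟩
  have hm : Maps f qB qC := ⟨hf, hIJ⟩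
  refine ⟨⟨(qB, qC), hIB I (le_sup_right.trans hle) hIfg hIker,
    hIC J (le_sup_right.trans le_sup_left) hJfg hJle, hm, fun hs => hm.surjective_hom (hsurj hs), fun hs hn => ?_⟩,
    ⟨hBs, le_sup_left.trans hle⟩, ⟨hCs, le_sup_left.trans le_sup_left⟩⟩
  obtain ⟨n, hn'⟩ := hnil hs hn
  refine ⟨n, le_bot_iff.mp ?_⟩
  have h1 : RingHom.ker hm.hom ≤ (J.comap φ).map (Ideal.Quotient.mk I) := by
    intro x hx
    obtain ⟨x, rfl⟩ := Ideal.Quotient.mk_surjective x
    exact Ideal.mem_map_of_mem _ (Ideal.Quotient.eq_zero_iff_mem.mp hx : φ x ∈ J)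
  refine (Ideal.pow_right_mono h1 n).trans ?_
  rw [← Ideal.map_pow]
  exact (Ideal.map_mono hn').trans (Ideal.map_quotient_self I).le

variable [Algebra.IsIntegral A B] [Algebra.IsIntegral A C]

instance : Nonempty (IntStage f) :=
  ⟨(exists_intGood f ⟨∅, ⊥, Submodule.fg_bot, bot_le⟩ ⟨∅, ⊥, Submodule.fg_bot, bot_le⟩).choose⟩

end FPPairColimLib
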