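import Groth.Agent.FPPairColimLib.System
import Mathlib.Algebra.Polynomial.Lifts

/-!
# Systems of presentations for a cospan with a nilpotent surjection
-/

set_option autoImplicit false
universe u

open CategoryTheory CategoryTheory.Limits MvPolynomial

namespace FPPairColimLib

variable {R : Type u} [CommRing R] {B D E : Type u} [CommRing B] [Algebra R B] [CommRing D] [Algebra R D]
  [CommRing E] [Algebra R E]

theorem exists_nil (f : B →ₐ[R] D) {s : Finset B} {t : Finset D} (h : ∀ b ∈ s, f b ∈ t)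
    (ht : ∀ c ∈ t, ∃ b ∈ s, f b = c) (hnil : ∀ x ∈ RingHom.ker f.toRingHom, IsNilpotent x)
    {I₁ : Ideal (MvPolynomial s R)} (hI₁ : I₁.FG) (hI₁e : I₁ ≤ RingHom.ker (ev R B s))
    {J : Ideal (MvPolynomial t R)} (hJ : J.FG) (hJe : J ≤ RingHom.ker (ev R D t))
    (hIJ : I₁.map (rename (R := R) (vmap f h)) ≤ J) :
    ∃ I, I₁ ≤ I ∧ I.FG ∧ I ≤ RingHom.ker (ev R B s) ∧ I.map (rename (R := R) (vmap f h)) ≤ J ∧
      J.comap (rename (R := R) (vmap f h)) ≤ I.radical := by
  classical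
  let φ := rename (R := R) (vmap f h)
  have hφ : Function.Surjective φ := rename_surjective' _ fun c => by
    obtain ⟨b, hb, e⟩ := ht c.1 c.2
    exact ⟨⟨b, hb⟩, Subtype.ext e⟩
  obtain ⟨G, hG⟩ := comap_fg φ hφ hJ
  have hker : ∀ g : {g // g ∈ G}, IsNilpotent (ev R B s g.1) := fun g => hnil _ (by
    show f (ev R B s g.1) = 0
    rw [← ev_rename f h]
    exact hJe (hG.le (Ideal.subset_span g.2) : g.1 ∈ J.comap φ))
  choose n hn using hker
  refine ⟨I₁ ⊔ Ideal.span (Set.range fun g => g.1 ^ (n g + 1)), le_sup_left,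
    Submodule.FG.sup hI₁ (Submodule.fg_span (Set.finite_range _)), sup_le hI₁e ?_, ?_, ?_⟩
  · refine Ideal.span_le.mpr ?_
    rintro _ ⟨g, rfl⟩
    show ev R B s (g.1 ^ (n g + 1)) = 0
    rw [map_pow, pow_succ, hn, zero_mul]
  · rw [Ideal.map_sup, Ideal.map_span]
    refine sup_le hIJ (Ideal.span_le.mpr ?_)
    rintro _ ⟨_, ⟨g, rfl⟩, rfl⟩
    have : g.1 ∈ J.comap φ := hG.le (Ideal.subset_span g.2)
    exact (map_pow φ _ _).symm ▸ J.pow_mem_of_mem this _ (Nat.succ_pos _)
  · show J.comap φ ≤ _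
    rw [← hG]
    exact Ideal.span_le.mpr fun g hg => ⟨n ⟨g, hg⟩ + 1, Ideal.mem_sup_right (Ideal.subset_span ⟨⟨g, hg⟩, rfl⟩)⟩

theorem Maps.isNilpotent_of_mem_ker {f : B →ₐ[R] D} {p : Pres R B} {q : Pres R D} (hm : Maps f p q)
    (h : q.I.comap (rename (R := R) (vmap f hm.choose)) ≤ p.I.radical) (x : p.Q) (hx : hm.hom x = 0) :
    IsNilpotent x := by
  obtain ⟨x, rfl⟩ := Ideal.Quotient.mk_surjective x
  obtain ⟨n, hn⟩ := h (Ideal.Quotient.eq_zero_iff_mem.mp hx : rename (vmap f hm.choose) x ∈ q.I)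
  exact ⟨n, by rw [← map_pow]; exact Ideal.Quotient.eq_zero_iff_mem.mpr hn⟩

variable (f : B →ₐ[R] D) (i : E →ₐ[R] D)

/-- A good triple of presentations. -/
def NilGood (x : Pres R B × Pres R D × Pres R E) : Prop :=
  (∃ h : Maps f x.1 x.2.1, (Function.Surjective f → Function.Surjective h.hom) ∧
    (Function.Surjective f → (∀ y ∈ RingHom.ker f.toRingHom, IsNilpotent y) → ∀ y, h.hom y = 0 → IsNilpotent y) ∧
    (f.toRingHom.IsIntegral → h.hom.toRingHom.IsIntegral)) ∧
  ∃ h : Maps i x.2.2 x.2.1, Function.Surjective h.hom ∧ ∀ y, h.hom y = 0 → IsNilpotent y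

/-- The index category. -/
abbrev NilStage : Type u := {x : Pres R B × Pres R D × Pres R E // NilGood f i x}

theorem exists_nilGood (hi : Function.Surjective i) (hnil : ∀ x ∈ RingHom.ker i.toRingHom, IsNilpotent x)
    (pB : Pres R B) (pD : Pres R D) (pE : Pres R E) :
    ∃ x : NilStage f i, pB ≤ x.1.1 ∧ pD ≤ x.1.2.1 ∧ pE ≤ x.1.2.2 := by
  classical
  let T₀ : Finset D := pD.s ∪ pB.s.image f ∪ pE.s.image i
  have hP : ∀ t : D, ∃ P : Polynomial B, f.toRingHom.IsIntegral → P.Monic ∧ Polynomial.eval₂ f.toRingHom t P = 0 :=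
    fun t => by
      by_cases h : f.toRingHom.IsIntegral
      · obtain ⟨P, h1, h2⟩ := h t; exact ⟨P, fun _ => ⟨h1, h2⟩⟩
      · exact ⟨0, fun h' => absurd h' h⟩
  choose P hP using hP
  let sB : Finset B := if hs : Function.Surjective f then pB.s ∪ T₀.image (Function.surjInv hs)
    else if f.toRingHom.IsIntegral then pB.s ∪ T₀.biUnion (fun t => (P t).coeffs) else pB.s
  let T : Finset D := T₀ ∪ sB.image f
  let sE : Finset E := pE.s ∪ T.image (Function.surjInv hi)
  have hBs : ∀ b ∈ pB.s, b ∈ sB := fun b hb => by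
    simp only [sB]; split_ifs
    exacts [Finset.mem_union_left _ hb, Finset.mem_union_left _ hb, hb]
  have hDs : ∀ c ∈ pD.s, c ∈ T := fun c hc =>
    Finset.mem_union_left _ (Finset.mem_union_left _ (Finset.mem_union_left _ hc))
  have hEs : ∀ c ∈ pE.s, c ∈ sE := fun c hc => Finset.mem_union_left _ hc
  have hf : ∀ b ∈ sB, f b ∈ T := fun b hb => Finset.mem_union_right _ (Finset.mem_image_of_mem f hb)
  have hi' : ∀ b ∈ sE, i b ∈ T := fun b hb => by
    rcases Finset.mem_union.mp hb with h | h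
    · exact Finset.mem_union_left _ (Finset.mem_union_right _ (Finset.mem_image_of_mem i h))
    · obtain ⟨t, ht, rfl⟩ := Finset.mem_image.mp h
      rwa [Function.surjInv_eq hi t]
  have hiT : ∀ c ∈ T, ∃ b ∈ sE, i b = c := fun c hc =>
    ⟨_, Finset.mem_union_right _ (Finset.mem_image_of_mem _ hc), Function.surjInv_eq hi c⟩
  have hfT : Function.Surjective f → ∀ c ∈ T, ∃ b ∈ sB, f b = c := by
    intro hs c hc
    rcases Finset.mem_union.mp hc with h | h
    · refine ⟨Function.surjInv hs c, ?_, Function.surjInv_eq hs c⟩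
      simp only [sB, dif_pos hs]
      exact Finset.mem_union_right _ (Finset.mem_image_of_mem _ h)
    · obtain ⟨b, hb, e⟩ := Finset.mem_image.mp h
      exact ⟨b, hb, e⟩
  let φ := rename (R := R) (vmap f hf)
  let ψ := rename (R := R) (vmap i hi')
  -- integral equations
  have hq : ∀ t : T, ∃ q : Polynomial (MvPolynomial sB R), (f.toRingHom.IsIntegral → ¬ Function.Surjective f →
      t.1 ∈ T₀ → q.Monic) ∧ ev R D T (q.eval₂ φ.toRingHom (X t)) = 0 := by
    intro t
    by_cases h : f.toRingHom.IsIntegral ∧ ¬ Function.Surjective f ∧ t.1 ∈ T₀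
    · obtain ⟨h1, h2, h3⟩ := h
      obtain ⟨hm, h0⟩ := hP t.1 h1
      have hl : P t.1 ∈ Polynomial.lifts (ev R B sB).toRingHom := (Polynomial.lifts_iff_coeff_lifts _).mpr fun n => by
        by_cases hn : (P t.1).coeff n = 0
        · exact ⟨0, by rw [hn]; exact map_zero _⟩
        · have hmem : (P t.1).coeff n ∈ sB := by
            simp only [sB, dif_neg h2, if_pos h1]
            exact Finset.mem_union_right _ (Finset.mem_biUnion.mpr ⟨t.1, h3, Polynomial.coeff_mem_coeffs hn⟩)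
          exact ⟨X ⟨_, hmem⟩, aeval_X _ _⟩
      rcases subsingleton_or_nontrivial B with hB | hB
      · refine ⟨1, fun _ _ _ => Polynomial.monic_one, ?_⟩
        rw [Polynomial.eval₂_one, map_one, ← map_one f, Subsingleton.elim (1 : B) 0, map_zero]
      obtain ⟨q, hq, -, hqm⟩ := Polynomial.lifts_and_degree_eq_and_monic hl hm
      refine ⟨q, fun _ _ _ => hqm, ?_⟩
      refine (Polynomial.hom_eval₂ q φ.toRingHom (ev R D T).toRingHom (X t)).trans ?_
      rw [show (ev R D T).toRingHom.comp φ.toRingHom = f.toRingHom.comp (ev R B sB).toRingHom from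
        RingHom.ext fun x => ev_rename f hf x, show (ev R D T).toRingHom (X t) = t.1 from aeval_X _ _,
        ← Polynomial.eval₂_map, hq]
      exact h0
    · exact ⟨0, fun a b c => absurd ⟨a, b, c⟩ h, by rw [Polynomial.eval₂_zero, map_zero]⟩
  choose q hqm hq0 using hq
  let B₁ := pB.I.map (rename (R := R) (vmap (AlgHom.id R B) hBs))
  let E₁ := pE.I.map (rename (R := R) (vmap (AlgHom.id R E) hEs))
  let J := (pD.I.map (rename (R := R) (vmap (AlgHom.id R D) hDs)) ⊔ Ideal.span (Set.range fun t => (q t).eval₂ φ.toRingHom (X t)))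
    ⊔ (B₁.map φ ⊔ E₁.map ψ)
  have hJfg : J.FG := Submodule.FG.sup (Submodule.FG.sup (Ideal.FG.map pD.fg _) (Submodule.fg_span (Set.finite_range _)))
    (Submodule.FG.sup (Ideal.FG.map (Ideal.FG.map pB.fg _) _) (Ideal.FG.map (Ideal.FG.map pE.fg _) _))
  have hJle : J ≤ RingHom.ker (ev R D T) := by
    refine sup_le (sup_le (map_le_ker _ hDs pD.le) (Ideal.span_le.mpr ?_))
      (sup_le (map_le_ker _ hf (map_le_ker _ hBs pB.le)) (map_le_ker _ hi' (map_le_ker _ hEs pE.le)))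
    rintro _ ⟨t, rfl⟩
    exact hq0 t
  obtain ⟨IE, hE1, hE2, hE3, hE4, hE5⟩ := exists_nil i hi' hiT hnil (Ideal.FG.map pE.fg _) (map_le_ker _ hEs pE.le)
    hJfg hJle (le_sup_of_le_right le_sup_right)
  obtain ⟨IB, hB1, hB2, hB3, hB4, hB5⟩ : ∃ I : Ideal (MvPolynomial sB R), B₁ ≤ I ∧ I.FG ∧
      I ≤ RingHom.ker (ev R B sB) ∧ I.map φ ≤ J ∧
      (Function.Surjective f → (∀ y ∈ RingHom.ker f.toRingHom, IsNilpotent y) → J.comap φ ≤ I.radical) := by
    by_cases h : Function.Surjective f ∧ ∀ y ∈ RingHom.ker f.toRingHom, IsNilpotent y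
    · obtain ⟨I, h1, h2, h3, h4, h5⟩ := exists_nil f hf (hfT h.1) h.2 (Ideal.FG.map pB.fg _) (map_le_ker _ hBs pB.le)
        hJfg hJle (le_sup_of_le_right le_sup_left)
      exact ⟨I, h1, h2, h3, h4, fun _ _ => h5⟩
    · exact ⟨B₁, le_rfl, Ideal.FG.map pB.fg _, map_le_ker _ hBs pB.le, le_sup_of_le_right le_sup_left,
        fun a b => absurd ⟨a, b⟩ h⟩
  let qB : Pres R B := ⟨sB, IB, hB2, hB3⟩
  let qD : Pres R D := ⟨T, J, hJfg, hJle⟩
  let qE : Pres R E := ⟨sE, IE, hE2, hE3⟩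
  have hmB : Maps f qB qD := ⟨hf, hB4⟩
  have hmE : Maps i qE qD := ⟨hi', hE4⟩
  refine ⟨⟨(qB, qD, qE), ⟨hmB, fun hs => hmB.surjective_hom (hfT hs),
    fun hs hn => hmB.isNilpotent_of_mem_ker (hB5 hs hn), fun hint => ?_⟩,
    hmE, hmE.surjective_hom hiT, hmE.isNilpotent_of_mem_ker hE5⟩,
    ⟨hBs, hB1⟩, ⟨hDs, le_sup_of_le_left le_sup_left⟩, ⟨hEs, hE1⟩⟩
  by_cases hs : Function.Surjective f
  · exact RingHom.isIntegral_of_surjective _ (hmB.surjective_hom (hfT hs))
  intro y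
  obtain ⟨y, rfl⟩ := Ideal.Quotient.mk_surjective y
  induction y using MvPolynomial.induction_on with
  | C r => exact ⟨Polynomial.X - Polynomial.C (algebraMap R qB.Q r), Polynomial.monic_X_sub_C _, by
      rw [Polynomial.eval₂_sub, Polynomial.eval₂_X, Polynomial.eval₂_C]
      exact sub_eq_zero.mpr (hmB.hom.commutes r).symm⟩
  | add a b ha hb => rw [map_add]; exact RingHom.IsIntegralElem.add _ ha hb
  | mul_X a t ha =>
    rw [map_mul]
    refine RingHom.IsIntegralElem.mul _ ha ?_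
    rcases Finset.mem_union.mp t.2 with h | h
    · refine ⟨(q t).map (Ideal.Quotient.mk IB), (hqm t hint hs h).map _, ?_⟩
      rw [Polynomial.eval₂_map, show hmB.hom.toRingHom.comp (Ideal.Quotient.mk IB) = (Ideal.Quotient.mk J).comp φ.toRingHom from
        RingHom.ext fun _ => rfl, ← Polynomial.hom_eval₂]
      exact Ideal.Quotient.eq_zero_iff_mem.mpr (Ideal.mem_sup_left (Ideal.mem_sup_right (Ideal.subset_span ⟨t, rfl⟩)))
    · obtain ⟨b, hb, e⟩ := Finset.mem_image.mp h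
      refine ⟨Polynomial.X - Polynomial.C (Ideal.Quotient.mk IB (X ⟨b, hb⟩)), Polynomial.monic_X_sub_C _, ?_⟩
      rw [Polynomial.eval₂_sub, Polynomial.eval₂_X, Polynomial.eval₂_C, sub_eq_zero]
      symm
      show Ideal.Quotient.mk J (rename (vmap f hf) (X ⟨b, hb⟩)) = _
      rw [rename_X]
      exact congrArg (fun c => Ideal.Quotient.mk J (X c)) (Subtype.ext e)

end FPPairColimLib
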