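import Mathlib.Algebra.Category.Ring.Under.Basic
import Mathlib.Algebra.Category.Ring.Constructions
import Mathlib.RingTheory.FinitePresentation
import Mathlib.RingTheory.IntegralClosure.IsIntegralClosure.Basic
import Mathlib.CategoryTheory.Filtered.Basic
import Mathlib.Algebra.MvPolynomial.Rename
import Mathlib.RingTheory.RingHom.FinitePresentation

/-!
# Finite presentations inside algebras, and colimits of systems of them
-/

set_option autoImplicit false
universe u

open CategoryTheory CategoryTheory.Limits MvPolynomial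

namespace FPPairColimLib

variable (R : Type u) [CommRing R] (B : Type u) [CommRing B] [Algebra R B]

/-- Evaluation of polynomials in finitely many elements. -/
noncomputable def ev (s : Finset B) : MvPolynomial s R →ₐ[R] B := aeval fun a : s => (a : B)

/-- Finitely many elements and finitely many relations among them. -/
structure Pres : Type u where
  s : Finset B
  I : Ideal (MvPolynomial s R)
  fg : I.FG
  le : I ≤ RingHom.ker (ev R B s)

variable {R B} {C E : Type u} [CommRing C] [Algebra R C] [CommRing E] [Algebra R E]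

/-- The map of variables. -/
def vmap (f : B →ₐ[R] C) {s : Finset B} {t : Finset C} (h : ∀ b ∈ s, f b ∈ t) (b : s) : t := ⟨f b, h b b.2⟩

theorem ev_rename (f : B →ₐ[R] C) {s : Finset B} {t : Finset C} (h : ∀ b ∈ s, f b ∈ t) (q : MvPolynomial s R) :
    ev R C t (rename (vmap f h) q) = f (ev R B s q) := by
  rw [ev, ev, aeval_rename, ← AlgHom.comp_apply, comp_aeval]
  rfl

theorem map_le_ker (f : B →ₐ[R] C) {s : Finset B} {t : Finset C} (h : ∀ b ∈ s, f b ∈ t)
    {I : Ideal (MvPolynomial s R)} (hI : I ≤ RingHom.ker (ev R B s)) :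
    I.map (rename (R := R) (vmap f h)) ≤ RingHom.ker (ev R C t) := by
  refine Ideal.map_le_iff_le_comap.mpr fun q hq => ?_
  change ev R C t (rename (vmap f h) q) = 0
  rw [ev_rename, show ev R B s q = 0 from hI hq, map_zero]

/-- `f` carries the presentation `p` into `q`. -/
def Maps (f : B →ₐ[R] C) (p : Pres R B) (q : Pres R C) : Prop :=
  ∃ h : ∀ b ∈ p.s, f b ∈ q.s, p.I.map (rename (R := R) (vmap f h)) ≤ q.I

theorem Maps.refl (p : Pres R B) : Maps (AlgHom.id R B) p p := ⟨fun _ hb => hb, by
  rw [show vmap (AlgHom.id R B) (s := p.s) (t := p.s) (fun _ hb => hb) = id from rfl, rename_id]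
  exact (Ideal.map_id _).le⟩

theorem Maps.comp {f : B →ₐ[R] C} {g : C →ₐ[R] E} {p : Pres R B} {q : Pres R C} {r : Pres R E}
    (hf : Maps f p q) (hg : Maps g q r) : Maps (g.comp f) p r := by
  obtain ⟨h, h1⟩ := hf
  obtain ⟨h', h2⟩ := hg
  refine ⟨fun b hb => h' _ (h b hb), ?_⟩
  refine le_trans ?_ ((Ideal.map_mono h1).trans h2)
  rw [Ideal.map_le_iff_le_comap]
  intro x hx
  rw [Ideal.mem_comap, show rename (vmap (g.comp f) (t := r.s) fun b hb => h' _ (h b hb)) x =
    rename (vmap g h') (rename (vmap f h) x) by rw [rename_rename]; rfl]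
  exact Ideal.mem_map_of_mem _ (Ideal.mem_map_of_mem _ hx)

theorem Maps.congr {f f' : B →ₐ[R] C} (h : f = f') {p : Pres R B} {q : Pres R C} (hf : Maps f p q) :
    Maps f' p q := h ▸ hf

namespace Pres

/-- The finitely presented algebra. -/
abbrev Q (p : Pres R B) : Type u := MvPolynomial p.s R ⧸ p.I

/-- Its map to the algebra. -/
noncomputable def toA (p : Pres R B) : p.Q →ₐ[R] B := Ideal.Quotient.liftₐ _ (ev R B p.s) fun _ h => p.le h

theorem toA_mk (p : Pres R B) (x : MvPolynomial p.s R) : p.toA (Ideal.Quotient.mk _ x) = ev R B p.s x := rfl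

theorem finitePresentation (p : Pres R B) : Algebra.FinitePresentation R p.Q :=
  Algebra.FinitePresentation.quotient p.fg

end Pres

/-- The map of presented algebras. -/
noncomputable def Maps.hom {f : B →ₐ[R] C} {p : Pres R B} {q : Pres R C} (h : Maps f p q) : p.Q →ₐ[R] q.Q :=
  Ideal.Quotient.liftₐ _ ((Ideal.Quotient.mkₐ R _).comp (rename (vmap f h.choose))) fun _ hx =>
    Ideal.Quotient.eq_zero_iff_mem.mpr (h.choose_spec (Ideal.mem_map_of_mem _ hx))

theorem Maps.hom_mk {f : B →ₐ[R] C} {p : Pres R B} {q : Pres R C} (h : Maps f p q) (x : MvPolynomial p.s R) :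
    h.hom (Ideal.Quotient.mk _ x) = Ideal.Quotient.mk _ (rename (vmap f h.choose) x) := rfl

theorem Maps.toA_hom {f : B →ₐ[R] C} {p : Pres R B} {q : Pres R C} (h : Maps f p q) (x : p.Q) :
    q.toA (h.hom x) = f (p.toA x) := by
  obtain ⟨x, rfl⟩ := Ideal.Quotient.mk_surjective x
  rw [h.hom_mk, Pres.toA_mk, Pres.toA_mk, ev_rename]

theorem Maps.hom_hom {f : B →ₐ[R] C} {g : C →ₐ[R] E} {k : B →ₐ[R] E} {p : Pres R B} {q : Pres R C} {r : Pres R E}
    (hf : Maps f p q) (hg : Maps g q r) (hk : Maps k p r) (e : ∀ b, g (f b) = k b) (x : p.Q) :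
    hg.hom (hf.hom x) = hk.hom x := by
  obtain ⟨x, rfl⟩ := Ideal.Quotient.mk_surjective x
  rw [hf.hom_mk, hg.hom_mk, hk.hom_mk, rename_rename]
  exact congrArg (fun v => Ideal.Quotient.mk r.I (rename v x)) (funext fun b => Subtype.ext (e b.1))

theorem Maps.surjective_hom {f : B →ₐ[R] C} {p : Pres R B} {q : Pres R C} (h : Maps f p q)
    (hs : ∀ c ∈ q.s, ∃ b ∈ p.s, f b = c) : Function.Surjective h.hom := by
  intro y
  obtain ⟨y, rfl⟩ := Ideal.Quotient.mk_surjective y
  choose σ hσ e using hs
  refine ⟨Ideal.Quotient.mk _ (rename (fun c : q.s => (⟨σ c c.2, hσ c c.2⟩ : p.s)) y), ?_⟩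
  rw [h.hom_mk, rename_rename]
  congr 1
  conv_rhs => rw [← rename_id_apply y]
  congr 2
  exact funext fun c => Subtype.ext (e c c.2)

instance : Preorder (Pres R B) where
  le p q := Maps (AlgHom.id R B) p q
  le_refl := Maps.refl
  le_trans _ _ _ h h' := (h.comp h').congr rfl

theorem Maps.natural {f : B →ₐ[R] C} {p p' : Pres R B} {q q' : Pres R C} (hp : p ≤ p') (hq : q ≤ q')
    (h : Maps f p q) (h' : Maps f p' q') (x : p.Q) : h'.hom (Maps.hom hp x) = Maps.hom hq (h.hom x) := by
  have hk : Maps f p q' := (h.comp hq).congr rfl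
  exact (Maps.hom_hom hp h' hk (fun _ => rfl) x).trans (Maps.hom_hom h hq hk (fun _ => rfl) x).symm

theorem hom_refl (p : Pres R B) (h : p ≤ p) (x : p.Q) : Maps.hom h x = x := by
  obtain ⟨x, rfl⟩ := Ideal.Quotient.mk_surjective x
  rw [Maps.hom_mk, show vmap (AlgHom.id R B) (Exists.choose h) = (id : p.s → p.s) from rfl, rename_id_apply]

variable (R B) in
/-- The system of all presentations. -/
noncomputable def diagram : Pres R B ⥤ Under (CommRingCat.of R) where
  obj p := CommRingCat.mkUnder (CommRingCat.of R) p.Q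
  map {p q} h := AlgHom.toUnder (Maps.hom (leOfHom h) : p.Q →ₐ[R] q.Q)
  map_id p := CommRingCat.mkUnder_ext fun a => by
    rw [AlgHom.toUnder_right]
    exact hom_refl p _ a
  map_comp {p q r} h h' := CommRingCat.mkUnder_ext fun a => by
    simp only [Under.comp_right, CommRingCat.comp_apply, AlgHom.toUnder_right]
    exact (Maps.hom_hom (leOfHom h) (leOfHom h') (leOfHom (h ≫ h')) (fun _ => rfl) a).symm

variable (R B) in
/-- Its map to the algebra. -/
noncomputable def toConst : diagram R B ⟶ (Functor.const _).obj (Under.mk (CommRingCat.ofHom (algebraMap R B))) where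
  app p := AlgHom.toUnder (Pres.toA p : p.Q →ₐ[R] B)
  naturality {p q} h := CommRingCat.mkUnder_ext fun a => by
    simp only [diagram, Functor.const_obj_map, Under.comp_right, CommRingCat.comp_apply]
    exact Maps.toA_hom (leOfHom h) a

/-- The sum of two ideals of relations in a bigger set of elements. -/
theorem exists_single (b : B) : ∃ p : Pres R B, b ∈ p.s :=
  ⟨⟨{b}, ⊥, Submodule.fg_bot, bot_le⟩, Finset.mem_singleton_self b⟩

theorem exists_relation (p : Pres R B) (x : p.Q) (hx : p.toA x = 0) :
    ∃ (q : Pres R B) (h : p ≤ q), Maps.hom h x = 0 ∧ q.s = p.s := by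
  obtain ⟨x, rfl⟩ := Ideal.Quotient.mk_surjective x
  refine ⟨⟨p.s, p.I ⊔ Ideal.span {x}, Submodule.FG.sup p.fg (Submodule.fg_span_singleton x), sup_le p.le
    (by rw [Ideal.span_singleton_le_iff_mem]; exact hx)⟩, ⟨fun _ hb => hb, ?_⟩, ?_, rfl⟩
  · rw [show vmap (AlgHom.id R B) (s := p.s) (t := p.s) (fun _ hb => hb) = id from rfl, rename_id]
    exact (Ideal.map_id _).le.trans le_sup_left
  · rw [Maps.hom_mk, Ideal.Quotient.eq_zero_iff_mem]
    show rename id x ∈ _
    rw [rename_id_apply]
    exact Ideal.mem_sup_right (Ideal.mem_span_singleton_self x)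

theorem comap_fg {σ τ : Type u} [Finite σ] [Finite τ] (φ : MvPolynomial σ R →ₐ[R] MvPolynomial τ R)
    (hφ : Function.Surjective φ) {J : Ideal (MvPolynomial τ R)} (hJ : J.FG) : (J.comap φ).FG := by
  haveI : Algebra.FinitePresentation R (MvPolynomial τ R ⧸ J) := Algebra.FinitePresentation.quotient hJ
  have h := Algebra.FinitePresentation.ker_fG_of_surjective ((Ideal.Quotient.mkₐ R J).comp φ)
    (Ideal.Quotient.mk_surjective.comp hφ)
  have e : J.comap φ = RingHom.ker ((Ideal.Quotient.mkₐ R J).comp φ) := by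
    ext x
    show φ x ∈ J ↔ Ideal.Quotient.mk J (φ x) = 0
    exact (Ideal.Quotient.eq_zero_iff_mem (I := J)).symm
  rw [e]; exact h

theorem rename_surjective' {σ τ : Type u} (v : σ → τ) (hv : Function.Surjective v) :
    Function.Surjective (rename (R := R) v) := fun y =>
  ⟨rename (Function.surjInv hv) y, by rw [rename_rename, show v ∘ Function.surjInv hv = id from
    funext (Function.surjInv_eq hv), rename_id_apply]⟩

end FPPairColimLib

namespace FPPairColimLib

variable {R : Type u} [CommRing R]

/-- A cocone of algebras which is jointly surjective and eventually injective is a colimit. -/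
theorem nonempty_isColimit {ι : Type u} [SmallCategory ι] [IsFiltered ι] {D : ι ⥤ Under (CommRingCat.of R)}
    {P : Under (CommRingCat.of R)} (c : D ⟶ (Functor.const ι).obj P)
    (hsurj : ∀ y : P.right, ∃ (j : ι) (x : (D.obj j).right), (c.app j).right x = y)
    (hinj : ∀ (j : ι) (x : (D.obj j).right), (c.app j).right x = 0 → ∃ (k : ι) (h : j ⟶ k), (D.map h).right x = 0) :
    Nonempty (IsColimit (Cocone.mk _ c)) := by
  choose J x hx using hsurj
  have hnat : ∀ {j k : ι} (h : j ⟶ k) (z : (D.obj j).right), (c.app k).right ((D.map h).right z) = (c.app j).right z := by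
    intro j k h z
    exact congrArg (fun φ => φ.right z) ((c.naturality h).trans (Category.comp_id _))
  have hw : ∀ (s : Cocone D) {j k : ι} (h : j ⟶ k) (z : (D.obj j).right),
      (s.ι.app k).right ((D.map h).right z) = (s.ι.app j).right z := fun s j k h z =>
    congrArg (fun φ => φ.right z) (s.w h)
  have key : ∀ (s : Cocone D) {j k : ι} (a : (D.obj j).right) (b : (D.obj k).right),
      (c.app j).right a = (c.app k).right b → (s.ι.app j).right a = (s.ι.app k).right b := by
    intro s j k a b h
    let m := IsFiltered.max j k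
    obtain ⟨n, hn, e⟩ := hinj m ((D.map (IsFiltered.leftToMax j k)).right a - (D.map (IsFiltered.rightToMax j k)).right b)
      (by rw [map_sub, hnat, hnat, h, sub_self])
    have e1 := congrArg (s.ι.app n).right e
    rw [hw, map_sub, hw, hw, map_zero, sub_eq_zero] at e1
    exact e1
  let desc : ∀ s : Cocone D, P.right →+* s.pt.right := fun s =>
    { toFun := fun y => (s.ι.app (J y)).right (x y)
      map_one' := (key s (k := J 1) (x 1) 1 (by rw [hx, map_one])).trans (map_one _)
      map_zero' := (key s (k := J 0) (x 0) 0 (by rw [hx, map_zero])).trans (map_zero _)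
      map_mul' := fun y z => by
        rw [← hw s (IsFiltered.leftToMax (J y) (J z)) (x y), ← hw s (IsFiltered.rightToMax (J y) (J z)) (x z), ← map_mul]
        exact key s _ _ (by rw [hx, map_mul, hnat, hnat, hx, hx])
      map_add' := fun y z => by
        rw [← hw s (IsFiltered.leftToMax (J y) (J z)) (x y), ← hw s (IsFiltered.rightToMax (J y) (J z)) (x z), ← map_add]
        exact key s _ _ (by rw [hx, map_add, hnat, hnat, hx, hx]) }
  refine ⟨⟨fun s => Under.homMk (CommRingCat.ofHom (desc s)) ?_, fun s j => ?_, fun s m hm => ?_⟩⟩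
  · ext r
    show (s.ι.app (J (P.hom r))).right (x (P.hom r)) = s.pt.hom r
    refine (key s (x (P.hom r)) ((D.obj (J (P.hom r))).hom r) ?_).trans (congrArg (fun φ : CommRingCat.of R ⟶ s.pt.right => φ.hom r) (Under.w (s.ι.app (J (P.hom r)))))
    rw [hx]
    exact (congrArg (fun φ : CommRingCat.of R ⟶ P.right => φ.hom r) (Under.w (c.app (J (P.hom r))))).symm
  · ext a
    exact key s _ a (hx _)
  · ext y
    show m.right y = (s.ι.app (J y)).right (x y)
    rw [← hm (J y)]
    exact congrArg m.right (hx y).symm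

end FPPairColimLib
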