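import Groth.Agent.FPPairColimLib.Pres

/-!
# Cofinal systems of presentations
-/

set_option autoImplicit false
universe u

open CategoryTheory CategoryTheory.Limits MvPolynomial

namespace FPPairColimLib

variable {R : Type u} [CommRing R] {B C : Type u} [CommRing B] [Algebra R B] [CommRing C] [Algebra R C]

theorem exists_upper (p q : Pres R B) : ∃ r : Pres R B, p ≤ r ∧ q ≤ r := by
  classical
  have hp : ∀ b ∈ p.s, AlgHom.id R B b ∈ p.s ∪ q.s := fun b hb => Finset.mem_union_left _ hb
  have hq : ∀ b ∈ q.s, AlgHom.id R B b ∈ p.s ∪ q.s := fun b hb => Finset.mem_union_right _ hb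
  exact ⟨⟨p.s ∪ q.s, p.I.map (rename (R := R) (vmap _ hp)) ⊔ q.I.map (rename (R := R) (vmap _ hq)),
    Submodule.FG.sup (Ideal.FG.map p.fg _) (Ideal.FG.map q.fg _), sup_le (map_le_ker _ hp p.le) (map_le_ker _ hq q.le)⟩,
    ⟨hp, le_sup_left⟩, ⟨hq, le_sup_right⟩⟩

variable {ι : Type u} [Preorder ι] [Nonempty ι] [IsDirectedOrder ι] {π : ι → Pres R B} (hπ : Monotone π)

/-- The diagram of a system of presentations. -/
noncomputable abbrev sysD : ι ⥤ Under (CommRingCat.of R) := hπ.functor ⋙ diagram R B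

/-- Its map to the algebra. -/
noncomputable def sysC : sysD hπ ⟶ (Functor.const ι).obj (Under.mk (CommRingCat.ofHom (algebraMap R B))) :=
  Functor.whiskerLeft hπ.functor (toConst R B)

theorem sysD_map {i j : ι} (h : i ⟶ j) (x : (π i).Q) :
    ((sysD hπ).map h).right x = Maps.hom (hπ (leOfHom h)) x := rfl

theorem sysC_app (j : ι) (x : (π j).Q) : ((sysC hπ).app j).right x = (π j).toA x := rfl

/-- A cofinal system of presentations has colimit the algebra. -/
theorem nonempty_isColimit_sys (hcof : ∀ p, ∃ j, p ≤ π j) : Nonempty (IsColimit (Cocone.mk _ (sysC hπ))) := by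
  refine nonempty_isColimit (sysC hπ) (fun y => ?_) fun j x hx => ?_
  · obtain ⟨p, hp⟩ := exists_single (R := R) (show B from y)
    obtain ⟨j, hj⟩ := hcof p
    have hy : (show B from y) ∈ (π j).s := by simpa using hj.choose _ hp
    refine ⟨j, Ideal.Quotient.mk (π j).I (X ⟨(show B from y), hy⟩), ?_⟩
    refine Eq.trans (sysC_app hπ j _) ?_
    show aeval (R := R) (fun a : (π j).s => (a : B)) (X ⟨(show B from y), hy⟩) = (show B from y)
    rw [aeval_X]
  · obtain ⟨q, hq, h0, -⟩ := exists_relation (π j) (show (π j).Q from x) hx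
    obtain ⟨k', hk'⟩ := hcof q
    obtain ⟨k, hjk, hk⟩ := directed_of (· ≤ ·) j k'
    refine ⟨k, homOfLE hjk, ?_⟩
    refine (sysD_map hπ (homOfLE hjk) x).trans ?_
    rw [← Maps.hom_hom hq (hk'.trans (hπ hk)) (hπ hjk) (fun _ => rfl) x, h0, map_zero]
    rfl

variable {ρ : ι → Pres R C} (hρ : Monotone ρ) (f : B →ₐ[R] C) (hm : ∀ j, Maps f (π j) (ρ j))

/-- The map of diagrams over an algebra map. -/
noncomputable def sysMap : sysD hπ ⟶ sysD hρ where
  app j := AlgHom.toUnder ((hm j).hom : (π j).Q →ₐ[R] (ρ j).Q)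
  naturality i j h := CommRingCat.mkUnder_ext fun x =>
    Maps.natural (hπ (leOfHom h)) (hρ (leOfHom h)) (hm i) (hm j) x

theorem sysMap_app (j : ι) (x : (π j).Q) : ((sysMap hπ hρ f hm).app j).right x = (hm j).hom x := rfl

theorem sysMap_comp_toA (j : ι) :
    ((sysMap hπ hρ f hm).app j).right ≫ ((sysC hρ).app j).right = ((sysC hπ).app j).right ≫ CommRingCat.ofHom f.toRingHom := by
  ext x
  exact (hm j).toA_hom x

end FPPairColimLib
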